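import Mathlib

/-!
# A fixed-point estimate for coprime actions on abelian groups

If a finite `q`-group `T` acts by automorphisms on a finite abelian `q'`-group `V` with no
nontrivial fixed point, then some `t ∈ T` has `|C_V(t)|² ≤ |V|`.
-/

set_option autoImplicit false

namespace Cfsg.Agent.Lib.PrimCS.FixSq

universe u v

section Basic

variable {V : Type u} [CommGroup V]

/-- The fixed points of an automorphism. -/
def fix (t : MulAut V) : Subgroup V where
  carrier := {v | t v = v}
  mul_mem' := by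
    intro a b ha hb
    simp only [Set.mem_setOf_eq] at ha hb ⊢
    rw [map_mul, ha, hb]
  one_mem' := map_one t
  inv_mem' := by
    intro a ha
    simp only [Set.mem_setOf_eq] at ha ⊢
    rw [map_inv, ha]

theorem mem_fix {t : MulAut V} {v : V} : v ∈ fix t ↔ t v = v := Iff.rfl

/-- Two subgroups of `C` meeting trivially. -/
theorem card_mul_card_le [Finite V] {A B C : Subgroup V} (hA : A ≤ C) (hB : B ≤ C) (h : A ⊓ B = ⊥) :
    Nat.card A * Nat.card B ≤ Nat.card C := by
  rw [← Nat.card_prod]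
  refine Nat.card_le_card_of_injective
    (fun x : A × B => (⟨(x.1 : V) * (x.2 : V), C.mul_mem (hA x.1.2) (hB x.2.2)⟩ : C)) ?_
  rintro ⟨⟨a, ha⟩, ⟨b, hb⟩⟩ ⟨⟨c, hc⟩, ⟨d, hd⟩⟩ hx
  have h1 : a * b = c * d := congrArg Subtype.val hx
  have h2 : c⁻¹ * a = d * b⁻¹ := by
    rw [inv_mul_eq_iff_eq_mul, ← mul_assoc, eq_mul_inv_iff_mul_eq, h1]
  have h3 : c⁻¹ * a ∈ A ⊓ B := by
    refine ⟨A.mul_mem (A.inv_mem hc) ha, ?_⟩
    rw [h2]
    exact B.mul_mem hd (B.inv_mem hb)
  rw [h, Subgroup.mem_bot] at h3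
  have h4 : a = c := by
    rw [inv_mul_eq_one] at h3
    exact h3.symm
  subst h4
  have h5 : b = d := mul_left_cancel h1
  subst h5
  rfl

/-- The norm map of an automorphism. -/
def nu (z : MulAut V) (n : ℕ) : V →* V where
  toFun v := ∏ i ∈ Finset.range n, (z ^ i) v
  map_one' := by simp
  map_mul' a b := by
    simp only [map_mul]
    exact Finset.prod_mul_distrib

theorem nu_apply (z : MulAut V) (n : ℕ) (v : V) :
    nu z n v = ∏ i ∈ Finset.range n, (z ^ i) v := rfl

theorem nu_fixed {z : MulAut V} {n : ℕ} (hn : z ^ n = 1) (v : V) : z (nu z n v) = nu z n v := by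
  rw [nu_apply, map_prod]
  have h1 : ∀ i, z ((z ^ i) v) = (z ^ (i + 1)) v := by
    intro i
    rw [pow_succ']
    rfl
  simp_rw [h1]
  have h2 := Finset.prod_range_succ (fun i => (z ^ i) v) n
  have h3 := Finset.prod_range_succ' (fun i => (z ^ i) v) n
  rw [h2] at h3
  simp only [pow_zero, hn] at h3
  exact (mul_right_cancel h3).symm

theorem nu_of_mem {z : MulAut V} {v : V} (hv : v ∈ fix z) (n : ℕ) : nu z n v = v ^ n := by
  rw [nu_apply]
  have h1 : ∀ i, (z ^ i) v = v := by
    intro i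
    induction i with
    | zero => rfl
    | succ i ih =>
      rw [pow_succ']
      show z ((z ^ i) v) = v
      rw [ih]
      exact hv
  simp_rw [h1]
  simp

theorem fix_inf_ker_nu [Finite V] {z : MulAut V} {n : ℕ} (hc : Nat.Coprime (Nat.card V) n) :
    fix z ⊓ (nu z n).ker = ⊥ := by
  rw [eq_bot_iff]
  intro v hv'
  have hv : v ∈ fix z := hv'.1
  have hk : nu z n v = 1 := hv'.2
  rw [nu_of_mem hv] at hk
  rw [Subgroup.mem_bot]
  have h1 := orderOf_dvd_of_pow_eq_one hk
  have h2 : orderOf v ∣ Nat.card V := orderOf_dvd_natCard v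
  have h3 := Nat.eq_one_of_dvd_coprimes hc h2 h1
  exact orderOf_eq_one_iff.mp h3

theorem card_fix_le [Finite V] {z s : MulAut V} {n : ℕ} (hn : z ^ n = 1) (hzs : Commute s z) :
    Nat.card (fix s) ≤ Nat.card (fix s ⊓ (nu z n).ker : Subgroup V) *
      Nat.card (fix s ⊓ fix z : Subgroup V) := by
  classical
  let f : fix s →* V := (nu z n).comp (fix s).subtype
  have h1 : Nat.card (fix s) = Nat.card f.ker * Nat.card f.range := by
    rw [← Subgroup.index_ker, mul_comm, Subgroup.index_mul_card]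
  rw [h1]
  apply Nat.mul_le_mul
  · refine Nat.card_le_card_of_injective
      (fun x : f.ker => (⟨(x.1 : V), x.1.2, x.2⟩ : (fix s ⊓ (nu z n).ker : Subgroup V))) ?_
    rintro ⟨⟨a, ha⟩, ha'⟩ ⟨⟨b, hb⟩, hb'⟩ hab
    have hab' : a = b := congrArg Subtype.val hab
    subst hab'
    rfl
  · apply Subgroup.card_le_of_le
    rintro _ ⟨⟨v, hv⟩, rfl⟩
    refine ⟨?_, ?_⟩
    · show s (nu z n v) = nu z n v
      have h2 : s (nu z n v) = nu z n (s v) := by
        rw [nu_apply, nu_apply, map_prod]
        refine Finset.prod_congr rfl ?_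
        intro i _
        have h3 : s * z ^ i = z ^ i * s := (hzs.pow_right i).eq
        exact congrArg (fun g : MulAut V => g v) h3
      rw [h2]
      have h4 : s v = v := hv
      rw [h4]
    · exact nu_fixed hn v

end Basic

section Res

variable {V : Type u} [CommGroup V]

/-- Restriction of an automorphism commuting with `z` to the fixed points of `z`. -/
def resAut {z s : MulAut V} (h : Commute s z) : MulAut (fix z) where
  toFun v := ⟨s v.1, by
    show z (s v.1) = s v.1
    have h3 : z * s = s * z := h.eq.symm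
    have h4 : z (s v.1) = s (z v.1) := congrArg (fun g : MulAut V => g v.1) h3
    rw [h4]
    have h5 : z v.1 = v.1 := v.2
    rw [h5]⟩
  invFun v := ⟨s⁻¹ v.1, by
    show z (s⁻¹ v.1) = s⁻¹ v.1
    have h3 : z * s⁻¹ = s⁻¹ * z := (h.inv_left).eq.symm
    have h4 : z (s⁻¹ v.1) = s⁻¹ (z v.1) := congrArg (fun g : MulAut V => g v.1) h3
    rw [h4]
    have h5 : z v.1 = v.1 := v.2
    rw [h5]⟩
  left_inv v := by
    apply Subtype.ext
    exact s.symm_apply_apply v.1
  right_inv v := by
    apply Subtype.ext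
    exact s.apply_symm_apply v.1
  map_mul' a b := by
    apply Subtype.ext
    exact map_mul s a.1 b.1

theorem resAut_coe {z s : MulAut V} (h : Commute s z) (v : fix z) :
    ((resAut h v : fix z) : V) = s v.1 := rfl

end Res

/-- The main estimate, for an action `ρ` of a fixed `q`-group `T`. -/
theorem exists_fix_sq_le_aux {q : ℕ} [hq : Fact q.Prime] {T : Type v} [Group T] (hT : IsPGroup q T)
    (n : ℕ) :
    ∀ (V : Type u) [CommGroup V] [Finite V] (ρ : T →* MulAut V), Nat.card V = n →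
      Nat.Coprime (Nat.card V) q → (∀ v : V, (∀ t : T, ρ t v = v) → v = 1) →
      ∃ t : T, Nat.card (fix (ρ t)) ^ 2 ≤ Nat.card V := by
  classical
  induction n using Nat.strong_induction_on with
  | _ n ih =>
  intro V _ _ ρ hn hcop hfix
  by_cases hbot : ρ.range = ⊥
  · refine ⟨1, ?_⟩
    have hsub : ∀ v : V, v = 1 := by
      intro v
      apply hfix
      intro t
      have h1 : ρ t = 1 := by
        have h2 : ρ t ∈ ρ.range := ⟨t, rfl⟩
        rw [hbot] at h2
        exact h2
      rw [h1]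
      rfl
    have h1 : Nat.card (fix (ρ 1)) = 1 := by
      rw [Nat.card_eq_one_iff_unique]
      refine ⟨⟨fun a b => Subtype.ext ((hsub _).trans (hsub _).symm)⟩, ⟨1⟩⟩
    rw [h1]
    simp only [one_pow]
    exact Nat.card_pos
  have hR : IsPGroup q ρ.range := hT.of_surjective ρ.rangeRestrict ρ.rangeRestrict_surjective
  haveI : Finite (MulAut V) := inferInstance
  haveI hnt : Nontrivial ρ.range := by
    rw [Subgroup.nontrivial_iff_ne_bot]
    exact hbot
  haveI hcn := hR.center_nontrivial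
  obtain ⟨⟨⟨z, hzR⟩, hzc⟩, hz₂⟩ := exists_ne (1 : Subgroup.center ρ.range)
  obtain ⟨τ, hτ⟩ := hzR
  have hcomm : ∀ t, Commute (ρ t) z := by
    intro t
    have h1 := (Subgroup.mem_center_iff.mp hzc) ⟨ρ t, t, rfl⟩
    exact (congrArg Subtype.val h1)
  have hz1 : z ≠ 1 := by
    intro h
    apply hz₂
    apply Subtype.ext
    apply Subtype.ext
    exact h
  set m := orderOf z with hm_def
  have hm : z ^ m = 1 := pow_orderOf_eq_one z
  have hcm : Nat.Coprime (Nat.card V) m := by
    obtain ⟨k, hk⟩ := (IsPGroup.iff_orderOf.mp hR) ⟨z, τ, hτ⟩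
    have h2 : m = q ^ k := by
      rw [hm_def, ← hk]
      exact (Subgroup.orderOf_mk z _).symm
    rw [h2]
    exact hcop.pow_right k
  have hV₀ : Nat.card (fix z) < n := by
    rw [← hn]
    refine lt_of_le_of_ne (Subgroup.card_le_card_group _) ?_
    intro h
    have h3 := Subgroup.eq_top_of_card_eq _ h
    apply hz1
    ext v
    have h4 : v ∈ fix z := by
      rw [h3]
      trivial
    exact h4
  let ρ₀ : T →* MulAut (fix z) :=
    { toFun := fun t => resAut (hcomm t)
      map_one' := by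
        ext v
        show ρ 1 v.1 = v.1
        rw [map_one]
        rfl
      map_mul' := by
        intro a b
        ext v
        show ρ (a * b) v.1 = ρ a (ρ b v.1)
        rw [map_mul]
        rfl }
  have hρ₀ : ∀ t (v : fix z), ((ρ₀ t v : fix z) : V) = ρ t v.1 := fun _ _ => rfl
  obtain ⟨t, ht⟩ := ih (Nat.card (fix z)) hV₀ (fix z) ρ₀ rfl
    (Nat.Coprime.coprime_dvd_left (Subgroup.card_subgroup_dvd_card _) hcop) (by
      intro v hv
      apply Subtype.ext
      apply hfix
      intro t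
      have h5 := congrArg Subtype.val (hv t)
      rw [hρ₀] at h5
      exact h5)
  set K := (nu z m).ker with hK_def
  have hK : Nat.card (fix z) * Nat.card K ≤ Nat.card V := by
    have h6 := card_mul_card_le (le_top (a := fix z)) (le_top (a := K)) (fix_inf_ker_nu hcm)
    rwa [Subgroup.card_top] at h6
  set s := ρ (t * τ) with hs_def
  have hs : s = ρ t * z := by
    rw [hs_def, map_mul, hτ]
  have hC : Nat.card (fix (ρ t) ⊓ K : Subgroup V) * Nat.card (fix s ⊓ K : Subgroup V)
      ≤ Nat.card K := by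
    refine card_mul_card_le inf_le_right inf_le_right ?_
    rw [eq_bot_iff]
    rintro v ⟨⟨h7, h8⟩, ⟨h9, h10⟩⟩
    have h7' : ρ t v = v := h7
    have h9' : s v = v := h9
    have h11 : v ∈ fix z ⊓ K := by
      refine ⟨?_, h8⟩
      show z v = v
      rw [hs] at h9'
      have h12 : ρ t (z v) = ρ t v := by
        rw [h7']
        exact h9'
      exact (ρ t).injective h12
    rw [hK_def, fix_inf_ker_nu hcm] at h11
    exact h11
  have hD : Nat.card (fix (ρ t) ⊓ fix z : Subgroup V) ≤ Nat.card (fix (ρ₀ t)) := by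
    refine Nat.card_le_card_of_injective
      (fun x : (fix (ρ t) ⊓ fix z : Subgroup V) =>
        (⟨⟨x.1, x.2.2⟩, Subtype.ext x.2.1⟩ : fix (ρ₀ t))) ?_
    rintro ⟨a, ha⟩ ⟨b, hb⟩ hab
    have h14 : a = b := congrArg (fun y : fix (ρ₀ t) => ((y : fix z) : V)) hab
    subst h14
    rfl
  have hD' : Nat.card (fix s ⊓ fix z : Subgroup V) ≤ Nat.card (fix (ρ₀ t)) := by
    refine le_trans (Subgroup.card_le_of_le ?_) hD
    rintro v ⟨h15, h16⟩
    refine ⟨?_, h16⟩
    have h15' : s v = v := h15
    have h16' : z v = v := h16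
    rw [hs] at h15'
    have h17 : ρ t (z v) = v := h15'
    rw [h16'] at h17
    exact h17
  have hD1 := card_fix_le hm (hcomm t)
  have hs_comm : Commute s z := by
    rw [hs]
    exact (hcomm t).mul_left (Commute.refl z)
  have hD2 := card_fix_le hm hs_comm
  rw [← hK_def] at hD1 hD2
  rcases le_total (Nat.card (fix (ρ t) ⊓ K : Subgroup V)) (Nat.card (fix s ⊓ K : Subgroup V))
    with hle | hle
  · refine ⟨t, ?_⟩
    calc Nat.card (fix (ρ t)) ^ 2
        ≤ (Nat.card (fix (ρ t) ⊓ K : Subgroup V) * Nat.card (fix (ρ₀ t))) ^ 2 :=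
          Nat.pow_le_pow_left (hD1.trans (Nat.mul_le_mul_left _ hD)) 2
      _ = Nat.card (fix (ρ t) ⊓ K : Subgroup V) ^ 2 * Nat.card (fix (ρ₀ t)) ^ 2 := mul_pow _ _ _
      _ ≤ Nat.card K * Nat.card (fix z) := by
          apply Nat.mul_le_mul _ ht
          rw [sq]
          exact (Nat.mul_le_mul_left _ hle).trans hC
      _ ≤ Nat.card V := by rw [mul_comm]; exact hK
  · refine ⟨t * τ, ?_⟩
    rw [← hs_def]
    calc Nat.card (fix s) ^ 2
        ≤ (Nat.card (fix s ⊓ K : Subgroup V) * Nat.card (fix (ρ₀ t))) ^ 2 :=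
          Nat.pow_le_pow_left (hD2.trans (Nat.mul_le_mul_left _ hD')) 2
      _ = Nat.card (fix s ⊓ K : Subgroup V) ^ 2 * Nat.card (fix (ρ₀ t)) ^ 2 := mul_pow _ _ _
      _ ≤ Nat.card K * Nat.card (fix z) := by
          apply Nat.mul_le_mul _ ht
          rw [sq]
          exact (Nat.mul_le_mul_right _ hle).trans hC
      _ ≤ Nat.card V := by rw [mul_comm]; exact hK

/-- The main estimate. -/
theorem exists_fix_sq_le {q : ℕ} [Fact q.Prime] {T : Type v} [Group T] (hT : IsPGroup q T)
    {V : Type u} [CommGroup V] [Finite V] (ρ : T →* MulAut V) (hcop : Nat.Coprime (Nat.card V) q)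
    (hfix : ∀ v : V, (∀ t : T, ρ t v = v) → v = 1) :
    ∃ t : T, Nat.card (fix (ρ t)) ^ 2 ≤ Nat.card V :=
  exists_fix_sq_le_aux hT _ V ρ rfl hcop hfix

/-- The main estimate, for a group that happens to be commutative. -/
theorem exists_fix_sq_le' {q : ℕ} [Fact q.Prime] {T : Type v} [Group T] (hT : IsPGroup q T)
    {V : Type u} [iV : Group V] [Finite V] (hcomm : ∀ a b : V, a * b = b * a) (ρ : T →* MulAut V)
    (hcop : Nat.Coprime (Nat.card V) q) (hfix : ∀ v : V, (∀ t : T, ρ t v = v) → v = 1) :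
    ∃ t : T, ∃ S : Subgroup V, (∀ v, v ∈ S ↔ ρ t v = v) ∧ Nat.card S ^ 2 ≤ Nat.card V := by
  letI iC : CommGroup V := { iV with mul_comm := hcomm }
  obtain ⟨t, ht⟩ := exists_fix_sq_le hT (V := V) ρ hcop hfix
  exact ⟨t, fix (ρ t), fun v => Iff.rfl, ht⟩

end Cfsg.Agent.Lib.PrimCS.FixSq
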