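import Cfsg.Agent.Lib.OddChar.Dual
import Cfsg.Agent.Lib.PGroups.Basic
import Mathlib

/-!
# Commutator pairings modulo the centre

Elementary lemmas on commutators with central values, and the representation lemma: if
`λ : Z(G) → ℂˣ` is injective and `D/D ∩ Z` is abelian with `D ∩ C(D) ≤ Z`, then every `w` with
`[D, w] ≤ Z` induces on `D` the same commutator map as an element of `D`.
-/

set_option autoImplicit false

namespace Cfsg.Agent.Lib.PrimCS.Pair

open Subgroup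
open scoped commutatorElement

universe u

section Comm

variable {G : Type u} [Group G]

theorem comm_mul_left {x y a : G} (hy : ⁅y, a⁆ ∈ center G) : ⁅x * y, a⁆ = ⁅x, a⁆ * ⁅y, a⁆ := by
  have hc := Subgroup.mem_center_iff.mp hy
  have h1 : y * a * y⁻¹ = ⁅y, a⁆ * a := by
    rw [commutatorElement_def]
    group
  calc ⁅x * y, a⁆ = x * (y * a * y⁻¹) * x⁻¹ * a⁻¹ := by
        rw [commutatorElement_def]
        group
    _ = (x * ⁅y, a⁆) * a * x⁻¹ * a⁻¹ := by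
        rw [h1]
        group
    _ = ⁅y, a⁆ * (x * a * x⁻¹ * a⁻¹) := by
        rw [hc x]
        group
    _ = ⁅x, a⁆ * ⁅y, a⁆ := by
        rw [← commutatorElement_def]
        exact (hc _).symm

theorem comm_mul_right {u a b : G} (ha : ⁅u, a⁆ ∈ center G) (hb : ⁅u, b⁆ ∈ center G) :
    ⁅u, a * b⁆ = ⁅u, a⁆ * ⁅u, b⁆ := by
  have hc := Subgroup.mem_center_iff.mp hb
  have h1 : u * a * u⁻¹ = ⁅u, a⁆ * a := by
    rw [commutatorElement_def]
    group
  have h2 : u * b * u⁻¹ = ⁅u, b⁆ * b := by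
    rw [commutatorElement_def]
    group
  calc ⁅u, a * b⁆ = (u * a * u⁻¹) * (u * b * u⁻¹) * b⁻¹ * a⁻¹ := by
        rw [commutatorElement_def]
        group
    _ = ⁅u, a⁆ * (a * ⁅u, b⁆) * a⁻¹ := by
        rw [h1, h2]
        group
    _ = ⁅u, a⁆ * ⁅u, b⁆ := by
        rw [hc a]
        group

theorem comm_pow_left {x a : G} (hx : ⁅x, a⁆ ∈ center G) (n : ℕ) : ⁅x ^ n, a⁆ = ⁅x, a⁆ ^ n := by
  induction n with
  | zero => simp
  | succ n ih =>
    rw [pow_succ, comm_mul_left hx, ih, pow_succ]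

theorem comm_pow_right {x a : G} (hx : ⁅x, a⁆ ∈ center G) (n : ℕ) : ⁅x, a ^ n⁆ = ⁅x, a⁆ ^ n := by
  induction n with
  | zero => simp
  | succ n ih =>
    have h1 : ⁅x, a ^ n⁆ ∈ center G := by
      rw [ih]
      exact Subgroup.pow_mem _ hx n
    rw [pow_succ, comm_mul_right h1 hx, ih, pow_succ]

end Comm

section Pair

variable {G : Type u} [Group G]

/-- The character `u ↦ λ [u, a]` on `D`. -/
def pair (lam : center G →* ℂˣ) (D : Subgroup G) (a : G) (ha : ∀ u ∈ D, ⁅u, a⁆ ∈ center G) :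
    D →* ℂˣ where
  toFun u := lam ⟨⁅(u : G), a⁆, ha u u.2⟩
  map_one' := by
    have h1 : (⟨⁅((1 : D) : G), a⁆, ha _ (1 : D).2⟩ : center G) = 1 := by
      apply Subtype.ext
      simp
    rw [h1, map_one]
  map_mul' x y := by
    rw [← map_mul]
    congr 1
    apply Subtype.ext
    exact comm_mul_left (ha y y.2)

theorem pair_apply (lam : center G →* ℂˣ) (D : Subgroup G) (a : G)
    (ha : ∀ u ∈ D, ⁅u, a⁆ ∈ center G) (u : D) :
    pair lam D a ha u = lam ⟨⁅(u : G), a⁆, ha u u.2⟩ := rfl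

/-- The representation lemma. -/
theorem exists_rep [Finite G] (lam : center G →* ℂˣ) (hlam : Function.Injective lam)
    (D : Subgroup G) (hDD : ∀ u ∈ D, ∀ v ∈ D, ⁅u, v⁆ ∈ center G)
    (hDC : ∀ n ∈ D, (∀ u ∈ D, ⁅u, n⁆ = 1) → n ∈ center G)
    {w : G} (hw : ∀ u ∈ D, ⁅u, w⁆ ∈ center G) :
    ∃ n ∈ D, ∀ u ∈ D, ⁅u, w⁆ = ⁅u, n⁆ := by
  classical
  let D₀ : Subgroup D := (center G).subgroupOf D
  haveI hD₀ : D₀.Normal := inferInstance
  have hmc : ∀ a b : D ⧸ D₀, a * b = b * a := by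
    intro a b
    obtain ⟨x, rfl⟩ := QuotientGroup.mk_surjective a
    obtain ⟨y, rfl⟩ := QuotientGroup.mk_surjective b
    have h1 : ((⁅x, y⁆ : D) : D ⧸ D₀) = 1 := by
      rw [QuotientGroup.eq_one_iff]
      exact hDD x x.2 y y.2
    have h2 : QuotientGroup.mk' D₀ ⁅x, y⁆ = 1 := h1
    rw [map_commutatorElement] at h2
    exact commutatorElement_eq_one_iff_mul_comm.mp h2
  letI iC : CommGroup (D ⧸ D₀) := { (inferInstance : Group (D ⧸ D₀)) with mul_comm := hmc }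
  haveI henough := Cfsg.Agent.Lib.OddChar.Dual.enough (D ⧸ D₀)
  have hcard : Nat.card ((D ⧸ D₀) →* ℂˣ) = Nat.card (D ⧸ D₀) :=
    CommGroup.card_monoidHom_of_hasEnoughRootsOfUnity (D ⧸ D₀) ℂ
  haveI : Finite ((D ⧸ D₀) →* ℂˣ) :=
    Nat.finite_of_card_ne_zero (by rw [hcard]; exact Nat.card_pos.ne')
  have htriv : ∀ (a : G) (ha : ∀ u ∈ D, ⁅u, a⁆ ∈ center G), ∀ z ∈ D₀, pair lam D a ha z = 1 := by
    intro a ha z hz
    have h1 : (z : G) ∈ center G := hz
    rw [pair_apply]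
    have h2 : (⟨⁅(z : G), a⁆, ha z z.2⟩ : center G) = 1 := by
      apply Subtype.ext
      show ⁅(z : G), a⁆ = 1
      rw [commutatorElement_eq_one_iff_mul_comm]
      exact (Subgroup.mem_center_iff.mp h1 a).symm
    rw [h2, map_one]
  let lift : ∀ (a : G) (_ : ∀ u ∈ D, ⁅u, a⁆ ∈ center G), (D ⧸ D₀) →* ℂˣ := fun a ha =>
    QuotientGroup.lift D₀ (pair lam D a ha) (htriv a ha)
  have hlift : ∀ (a : G) (ha : ∀ u ∈ D, ⁅u, a⁆ ∈ center G) (u : D),
      lift a ha (u : D ⧸ D₀) = lam ⟨⁅(u : G), a⁆, ha u u.2⟩ := fun _ _ _ => rfl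
  let rep : D ⧸ D₀ → G := fun x => ((Quotient.out x : D) : G)
  have hrepD : ∀ x, rep x ∈ D := fun x => (Quotient.out x : D).2
  have hrep : ∀ x : D ⧸ D₀, ((Quotient.out x : D) : D ⧸ D₀) = x := fun x => Quotient.out_eq x
  let Ψ : D ⧸ D₀ → ((D ⧸ D₀) →* ℂˣ) := fun x => lift (rep x) (fun u hu => hDD u hu _ (hrepD x))
  have hΨ : Function.Injective Ψ := by
    intro x y hxy
    have h1 : ∀ u : D, ⁅(u : G), rep x⁆ = ⁅(u : G), rep y⁆ := by
      intro u
      have h2 := DFunLike.congr_fun hxy (u : D ⧸ D₀)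
      have h3 := hlam h2
      exact congrArg Subtype.val h3
    have h4 : (rep y)⁻¹ * rep x ∈ center G := by
      apply hDC _ (D.mul_mem (D.inv_mem (hrepD y)) (hrepD x))
      intro u hu
      have h5 := h1 ⟨u, hu⟩
      simp only [commutatorElement_def] at h5 ⊢
      set a := rep x with ha
      set b := rep y with hb
      have h6 : a * u⁻¹ * a⁻¹ = b * u⁻¹ * b⁻¹ := by
        apply mul_left_cancel (a := u)
        simpa [mul_assoc] using h5
      calc u * (b⁻¹ * a) * u⁻¹ * (b⁻¹ * a)⁻¹ = u * b⁻¹ * (a * u⁻¹ * a⁻¹) * b := by group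
        _ = u * b⁻¹ * (b * u⁻¹ * b⁻¹) * b := by rw [h6]
        _ = 1 := by group
    rw [← hrep x, ← hrep y]
    rw [eq_comm, QuotientGroup.eq]
    exact h4
  have hsurj : Function.Surjective Ψ := (hΨ.bijective_of_nat_card_le hcard.le).2
  obtain ⟨x, hx⟩ := hsurj (lift w hw)
  refine ⟨rep x, hrepD x, fun u hu => ?_⟩
  have h8 := DFunLike.congr_fun hx ((⟨u, hu⟩ : D) : D ⧸ D₀)
  have h9 := hlam h8
  exact (congrArg Subtype.val h9).symm

end Pair

/-- A central step in a `p`-quotient. -/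
theorem exists_central_step {G : Type u} [Group G] [Finite G] {p : ℕ} [hp : Fact p.Prime]
    {N M C : Subgroup G} (hM : M.Normal) (hC : C.Normal) (hCN : C ≤ N) (hMN : M ≤ N)
    (hpow : ∃ k, M.relIndex N = p ^ k) (hne : ¬ C ≤ M) :
    ∃ u ∈ C, u ∉ M ∧ ∀ w ∈ N, ⁅u, w⁆ ∈ M := by
  classical
  let M' : Subgroup N := M.subgroupOf N
  haveI : M'.Normal := hM.subgroupOf N
  have hP : IsPGroup p (N ⧸ M') := by
    obtain ⟨k, hk⟩ := hpow
    apply IsPGroup.of_card (n := k)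
    exact hk
  let K : Subgroup (N ⧸ M') := (C.subgroupOf N).map (QuotientGroup.mk' M')
  haveI hCn : (C.subgroupOf N).Normal := hC.subgroupOf N
  haveI hK : K.Normal := hCn.map _ (QuotientGroup.mk'_surjective M')
  have hK0 : K ≠ ⊥ := by
    intro h
    apply hne
    intro c hc
    have h1 : (QuotientGroup.mk' M' ⟨c, hCN hc⟩) ∈ K := ⟨⟨c, hCN hc⟩, hc, rfl⟩
    rw [h, Subgroup.mem_bot] at h1
    exact (QuotientGroup.eq_one_iff (⟨c, hCN hc⟩ : N)).mp h1
  obtain ⟨z, hzK, hzZ, hzo⟩ := Cfsg.Agent.Lib.PGroups.Basic.exists_central_orderOf_eq hP K hK0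
  obtain ⟨⟨u, huN⟩, huC, rfl⟩ := hzK
  refine ⟨u, huC, ?_, ?_⟩
  · intro huM
    have h2 : QuotientGroup.mk' M' ⟨u, huN⟩ = 1 :=
      (QuotientGroup.eq_one_iff (⟨u, huN⟩ : N)).mpr huM
    rw [h2, orderOf_one] at hzo
    exact hp.out.one_lt.ne hzo
  · intro w hw
    have h3 := Subgroup.mem_center_iff.mp hzZ (QuotientGroup.mk' M' ⟨w, hw⟩)
    have h4 : QuotientGroup.mk' M' ⁅(⟨u, huN⟩ : N), ⟨w, hw⟩⁆ = 1 := by
      rw [map_commutatorElement, commutatorElement_eq_one_iff_mul_comm]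
      exact h3.symm
    have h5 := (QuotientGroup.eq_one_iff (⁅(⟨u, huN⟩ : N), ⟨w, hw⟩⁆ : N)).mp h4
    exact h5

end Cfsg.Agent.Lib.PrimCS.Pair
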