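import Cfsg.Agent.Lib.PrimCS.FixSq
import Cfsg.Agent.Lib.PrimCS.Pair

/-!
# Structure of a metanilpotent `{p, q}`-group with a faithful homogeneous character

The group theory behind the class-size divisibility for primitive characters.
-/

set_option autoImplicit false

namespace Cfsg.Agent.Lib.PrimCS.Struct

open Subgroup
open scoped commutatorElement Pointwise
open Cfsg.Agent.Lib.PrimCS.Pair Cfsg.Agent.Lib.PrimCS.FixSq

universe u

variable {G : Type u} [Group G]

/-- The normal subgroups attached to a metanilpotent `{p, q}`-group. -/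
structure Setup (p q : ℕ) (P Q Np Nq : Subgroup G) : Prop where
  hp : p.Prime
  hq : q.Prime
  hpq : p ≠ q
  nP : P.Normal
  nQ : Q.Normal
  nNp : Np.Normal
  nNq : Nq.Normal
  gP : IsPGroup p P
  gQ : IsPGroup q Q
  PNp : P ≤ Np
  QNp : Q ≤ Np
  PNq : P ≤ Nq
  QNq : Q ≤ Nq
  iQ : ∃ a, Q.relIndex Np = p ^ a
  iP : ∃ b, P.relIndex Nq = q ^ b
  inf : Np ⊓ Nq ≤ P ⊔ Q
  sup : Np ⊔ Nq = ⊤
  iNp : ∃ c, Np.index = q ^ c
  iNq : ∃ d, Nq.index = p ^ d

theorem Setup.swap {p q : ℕ} {P Q Np Nq : Subgroup G} (S : Setup p q P Q Np Nq) :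
    Setup q p Q P Nq Np where
  hp := S.hq
  hq := S.hp
  hpq := S.hpq.symm
  nP := S.nQ
  nQ := S.nP
  nNp := S.nNq
  nNq := S.nNp
  gP := S.gQ
  gQ := S.gP
  PNp := S.QNq
  QNp := S.PNq
  PNq := S.QNp
  QNq := S.PNp
  iQ := S.iP
  iP := S.iQ
  inf := by
    rw [inf_comm, sup_comm]
    exact S.inf
  sup := by
    rw [sup_comm]
    exact S.sup
  iNp := S.iNq
  iNq := S.iNp

/-- What the character provides. -/
structure Core (G : Type u) [Group G] : Prop where
  abel : ∀ N : Subgroup G, N.Normal → (∀ a ∈ N, ∀ b ∈ N, a * b = b * a) → N ≤ center G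
  lam : ∃ l : center G →* ℂˣ, Function.Injective l

section Basic

theorem mem_center_of_forall_comm (C : Core G) {u : G} (h : ∀ g, ⁅u, g⁆ ∈ center G) :
    u ∈ center G := by
  let π := QuotientGroup.mk' (center G)
  have hcen : ∀ g, π g * π u = π u * π g := by
    intro g
    have h1 : π ⁅u, g⁆ = 1 := (QuotientGroup.eq_one_iff _).mpr (h g)
    rw [map_commutatorElement, commutatorElement_eq_one_iff_mul_comm] at h1
    exact h1.symm
  let U : Subgroup G := (zpowers (π u)).comap π
  have hcz : ∀ k : ℤ, ∀ g, π g * (π u) ^ k = (π u) ^ k * π g := by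
    intro k g
    exact ((Commute.zpow_right (hcen g) k)).eq
  have hn : U.Normal := by
    constructor
    intro x hx g
    obtain ⟨k, hk⟩ := Subgroup.mem_zpowers_iff.mp (Subgroup.mem_comap.mp hx)
    refine Subgroup.mem_comap.mpr (Subgroup.mem_zpowers_iff.mpr ⟨k, ?_⟩)
    rw [map_mul, map_mul, map_inv, ← hk, hcz k g]
    group
  have hmem : ∀ a ∈ U, ∃ k : ℤ, ∃ z ∈ center G, a = u ^ k * z := by
    intro a ha
    obtain ⟨k, hk⟩ := Subgroup.mem_zpowers_iff.mp (Subgroup.mem_comap.mp ha)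
    refine ⟨k, (u ^ k)⁻¹ * a, ?_, by group⟩
    have h1 : π ((u ^ k)⁻¹ * a) = 1 := by
      rw [map_mul, map_inv, map_zpow, hk]
      group
    exact (QuotientGroup.eq_one_iff _).mp h1
  have hab : ∀ a ∈ U, ∀ b ∈ U, a * b = b * a := by
    intro a ha b hb
    obtain ⟨k, z, hz, rfl⟩ := hmem a ha
    obtain ⟨l, w, hw, rfl⟩ := hmem b hb
    have h2 : Commute (u ^ k * z) (u ^ l * w) := by
      have hz' : ∀ g, Commute z g := fun g => (Subgroup.mem_center_iff.mp hz g).symm
      have hw' : ∀ g, Commute w g := fun g => (Subgroup.mem_center_iff.mp hw g).symm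
      refine Commute.mul_left (Commute.mul_right ?_ (hw' _).symm) (hz' _)
      exact Commute.zpow_zpow_self u k l
    exact h2.eq
  apply C.abel U hn hab
  exact Subgroup.mem_comap.mpr (Subgroup.mem_zpowers _)

/-- `D ∩ C(D)` is central. -/
theorem mem_center_of_comm (C : Core G) {D : Subgroup G} (hD : D.Normal) {n : G} (hn : n ∈ D)
    (h : ∀ u ∈ D, ⁅u, n⁆ = 1) : n ∈ center G := by
  haveI := hD
  apply C.abel (D ⊓ centralizer (D : Set G)) inferInstance
  · rintro a ⟨ha, -⟩ b ⟨-, hb⟩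
    exact Subgroup.mem_centralizer_iff.mp hb a ha
  · refine ⟨hn, Subgroup.mem_centralizer_iff_commutator_eq_one.mpr h⟩

/-- Elements with central commutators with `N`. -/
def cz (N : Subgroup G) : Subgroup G :=
  (centralizer ((N.map (QuotientGroup.mk' (center G))  : Subgroup _) : Set _)).comap
    (QuotientGroup.mk' (center G))

theorem mem_cz {N : Subgroup G} {u : G} : u ∈ cz N ↔ ∀ w ∈ N, ⁅u, w⁆ ∈ center G := by
  constructor
  · intro h w hw
    have h1 := Subgroup.mem_centralizer_iff.mp (Subgroup.mem_comap.mp h) _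
      (Subgroup.mem_map_of_mem _ hw)
    have h2 : QuotientGroup.mk' (center G) ⁅u, w⁆ = 1 := by
      rw [map_commutatorElement, commutatorElement_eq_one_iff_mul_comm]
      exact h1.symm
    exact (QuotientGroup.eq_one_iff _).mp h2
  · intro h
    refine Subgroup.mem_comap.mpr (Subgroup.mem_centralizer_iff.mpr ?_)
    rintro _ ⟨w, hw, rfl⟩
    have h2 : QuotientGroup.mk' (center G) ⁅u, w⁆ = 1 :=
      (QuotientGroup.eq_one_iff _).mpr (h w hw)
    rw [map_commutatorElement, commutatorElement_eq_one_iff_mul_comm] at h2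
    exact h2.symm

theorem cz_normal {N : Subgroup G} (hN : N.Normal) : (cz N).Normal := by
  haveI := hN
  haveI : (N.map (QuotientGroup.mk' (center G))).Normal :=
    hN.map _ (QuotientGroup.mk'_surjective _)
  unfold cz
  infer_instance

end Basic

section Step

variable {p q : ℕ} {P Q Np Nq : Subgroup G}

theorem comm_eq_imp {u a b : G} (h : ⁅u, a⁆ = ⁅u, b⁆) : ⁅u, b⁻¹ * a⁆ = 1 := by
  simp only [commutatorElement_def] at h ⊢
  have h6 : a * u⁻¹ * a⁻¹ = b * u⁻¹ * b⁻¹ := by
    apply mul_left_cancel (a := u)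
    simpa [mul_assoc] using h
  calc u * (b⁻¹ * a) * u⁻¹ * (b⁻¹ * a)⁻¹ = u * b⁻¹ * (a * u⁻¹ * a⁻¹) * b := by group
    _ = u * b⁻¹ * (b * u⁻¹ * b⁻¹) * b := by rw [h6]
    _ = 1 := by group

theorem Setup.disjoint [Finite G] (S : Setup p q P Q Np Nq) : Disjoint P Q := by
  haveI : Fact p.Prime := ⟨S.hp⟩
  haveI : Fact q.Prime := ⟨S.hq⟩
  exact IsPGroup.disjoint_of_ne p q S.hpq P Q S.gP S.gQ

theorem Setup.comm_PQ [Finite G] (S : Setup p q P Q Np Nq) {x y : G} (hx : x ∈ P) (hy : y ∈ Q) :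
    x * y = y * x :=
  (Subgroup.commute_of_normal_of_disjoint P Q S.nP S.nQ S.disjoint x y hx hy).eq

/-- **Step B**: `[P, N_p] ≤ Z(G)`. -/
theorem stepB [Finite G] (S : Setup p q P Q Np Nq) (C : Core G) :
    ∀ u ∈ P, ∀ w ∈ Np, ⁅u, w⁆ ∈ center G := by
  classical
  haveI := S.nP
  haveI := S.nQ
  haveI := S.nNp
  haveI := S.nNq
  haveI : Fact p.Prime := ⟨S.hp⟩
  obtain ⟨l, hl⟩ := C.lam
  haveI hcz : (cz Np).Normal := cz_normal S.nNp
  let D : Subgroup G := P ⊓ cz Np
  have hDn : D.Normal := inferInstance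
  haveI := hDn
  let C₁ : Subgroup G := P ⊓ centralizer (D : Set G)
  have hC₁n : C₁.Normal := inferInstance
  have hC₁ : C₁ ≤ center G := by
    by_contra hne
    let M : Subgroup G := Q ⊔ (P ⊓ center G)
    have hMn : M.Normal := inferInstance
    have hMNp : M ≤ Np := sup_le S.QNp (inf_le_left.trans S.PNp)
    have hMP : ∀ x ∈ M, x ∈ P → x ∈ center G := by
      intro x hxM hxP
      rw [← SetLike.mem_coe, Subgroup.normal_mul, Set.mem_mul] at hxM
      obtain ⟨v, hv, z, hz, rfl⟩ := hxM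
      have h1 : v ∈ P := by
        have := P.mul_mem hxP (P.inv_mem hz.1)
        simpa using this
      have h2 : v = 1 := Subgroup.disjoint_def.mp S.disjoint h1 hv
      rw [h2, one_mul]
      exact hz.2
    have hpow : ∃ k, M.relIndex Np = p ^ k := by
      obtain ⟨a, ha⟩ := S.iQ
      have h1 : M.relIndex Np ∣ p ^ a := ha ▸ relIndex_dvd_of_le_left Np le_sup_left
      obtain ⟨k, -, hk⟩ := (Nat.dvd_prime_pow S.hp).mp h1
      exact ⟨k, hk⟩
    have hne' : ¬ C₁ ≤ M := fun h => hne (fun x hx => hMP x (h hx) hx.1)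
    obtain ⟨u, ⟨huP, huC⟩, huM, hu⟩ :=
      exists_central_step hMn hC₁n (inf_le_left.trans S.PNp) hMNp hpow hne'
    have huD : u ∈ D := by
      refine ⟨huP, mem_cz.mpr fun w hw => ?_⟩
      apply hMP _ (hu w hw)
      have h5 : ⁅u, w⁆ = u * (w * u⁻¹ * w⁻¹) := by
        rw [commutatorElement_def]
        group
      rw [h5]
      exact P.mul_mem huP (S.nP.conj_mem _ (P.inv_mem huP) w)
    have hzu : u ∈ center G := mem_center_of_comm C hDn huD (fun v hv =>
      Subgroup.mem_centralizer_iff_commutator_eq_one.mp huC v hv)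
    exact huM (Subgroup.mem_sup_right ⟨huP, hzu⟩)
  have hPD : P ≤ D := by
    intro w hw
    have hDD : ∀ u ∈ D, ∀ v ∈ D, ⁅u, v⁆ ∈ center G :=
      fun u hu v hv => mem_cz.mp hu.2 v (S.PNp hv.1)
    obtain ⟨n, hn, hnw⟩ := exists_rep l hl D hDD (fun n hn h => mem_center_of_comm C hDn hn h)
      (w := w) (fun u hu => mem_cz.mp hu.2 w (S.PNp hw))
    have h1 : n⁻¹ * w ∈ C₁ := by
      refine ⟨P.mul_mem (P.inv_mem hn.1) hw, ?_⟩
      show n⁻¹ * w ∈ centralizer (D : Set G)
      rw [Subgroup.mem_centralizer_iff_commutator_eq_one]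
      intro u hu
      exact comm_eq_imp (hnw u hu)
    have h2 : n⁻¹ * w ∈ center G := hC₁ h1
    have h3 : n⁻¹ * w ∈ D := by
      refine ⟨h1.1, mem_cz.mpr fun v _ => ?_⟩
      have h4 : ⁅n⁻¹ * w, v⁆ = 1 := by
        rw [commutatorElement_eq_one_iff_mul_comm]
        exact (Subgroup.mem_center_iff.mp h2 v).symm
      rw [h4]
      exact Subgroup.one_mem _
    simpa using D.mul_mem hn h3
  intro u hu w hw
  exact mem_cz.mp (hPD hu).2 w hw

/-- The part of `N_p` centralising `P`. -/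
def cent (P Np : Subgroup G) : Subgroup G := Np ⊓ centralizer (P : Set G)

theorem cent_normal {P Np : Subgroup G} (hP : P.Normal) (hN : Np.Normal) : (cent P Np).Normal := by
  haveI := hP
  haveI := hN
  unfold cent
  infer_instance

theorem mem_cent {P Np : Subgroup G} {x : G} :
    x ∈ cent P Np ↔ x ∈ Np ∧ ∀ u ∈ P, u * x = x * u := by
  rw [cent, Subgroup.mem_inf, Subgroup.mem_centralizer_iff]
  rfl

theorem exists_mul_cent [Finite G] (S : Setup p q P Q Np Nq) (C : Core G) {w : G} (hw : w ∈ Np) :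
    ∃ n ∈ P, n⁻¹ * w ∈ cent P Np := by
  obtain ⟨l, hl⟩ := C.lam
  have hB := stepB S C
  obtain ⟨n, hn, hnw⟩ := exists_rep l hl P (fun u hu v hv => hB u hu v (S.PNp hv))
    (fun n hn h => mem_center_of_comm C S.nP hn h) (fun u hu => hB u hu w hw)
  refine ⟨n, hn, Np.mul_mem (Np.inv_mem (S.PNp hn)) hw, ?_⟩
  show n⁻¹ * w ∈ centralizer (P : Set G)
  rw [Subgroup.mem_centralizer_iff_commutator_eq_one]
  intro u hu
  exact comm_eq_imp (hnw u hu)

theorem le_sup_cent [Finite G] (S : Setup p q P Q Np Nq) (C : Core G) : Np ≤ P ⊔ cent P Np := by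
  intro w hw
  obtain ⟨n, hn, hnw⟩ := exists_mul_cent S C hw
  have h1 := (P ⊔ cent P Np).mul_mem (Subgroup.mem_sup_left hn) (Subgroup.mem_sup_right hnw)
  simpa using h1

theorem P_le_cent [Finite G] (S : Setup p q P Q Np Nq) : P ≤ cent Q Nq := by
  intro x hx
  refine mem_cent.mpr ⟨S.PNq hx, fun u hu => ?_⟩
  exact (S.comm_PQ hx hu).symm

theorem sup_cent [Finite G] (S : Setup p q P Q Np Nq) (C : Core G) :
    cent P Np ⊔ cent Q Nq = ⊤ := by
  rw [eq_top_iff, ← S.sup]
  refine sup_le ?_ ?_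
  · refine (le_sup_cent S C).trans (sup_le ?_ le_sup_left)
    exact (P_le_cent S).trans le_sup_right
  · refine (le_sup_cent S.swap C).trans (sup_le ?_ le_sup_right)
    exact (P_le_cent S.swap).trans le_sup_left

theorem inf_cent_le [Finite G] (S : Setup p q P Q Np Nq) (C : Core G) :
    cent P Np ⊓ cent Q Nq ≤ center G := by
  haveI := cent_normal S.nP S.nNp
  haveI := cent_normal S.nQ S.nNq
  apply C.abel _ inferInstance
  rintro a ⟨ha1, ha2⟩ b ⟨hb1, hb2⟩
  have h1 : a ∈ P ⊔ Q := S.inf ⟨(mem_cent.mp ha1).1, (mem_cent.mp ha2).1⟩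
  have h2 : P ⊔ Q ≤ centralizer ({b} : Set G) := by
    refine sup_le ?_ ?_
    · intro x hx
      rw [Subgroup.mem_centralizer_singleton_iff]
      exact ((mem_cent.mp hb1).2 x hx)
    · intro x hx
      rw [Subgroup.mem_centralizer_singleton_iff]
      exact ((mem_cent.mp hb2).2 x hx)
  exact Subgroup.mem_centralizer_singleton_iff.mp (h2 h1)

theorem pow_mem_of_relIndex {A B : Subgroup G} (hA : A.Normal) {x : G} (hx : x ∈ B) :
    x ^ A.relIndex B ∈ A := by
  haveI : (A.subgroupOf B).Normal := hA.subgroupOf B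
  have h1 := Subgroup.pow_index_mem (A.subgroupOf B) (⟨x, hx⟩ : B)
  exact h1

/-- The two centralising parts commute. -/
theorem comm_cent [Finite G] (S : Setup p q P Q Np Nq) (C : Core G) {a b : G}
    (ha : a ∈ cent P Np) (hb : b ∈ cent Q Nq) : a * b = b * a := by
  haveI hn1 := cent_normal S.nP S.nNp
  haveI hn2 := cent_normal S.nQ S.nNq
  have hc : ⁅a, b⁆ ∈ center G := by
    apply inf_cent_le S C
    constructor
    · have h5 : ⁅a, b⁆ = a * (b * a⁻¹ * b⁻¹) := by
        rw [commutatorElement_def]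
        group
      rw [h5]
      exact (cent P Np).mul_mem ha (hn1.conj_mem _ ((cent P Np).inv_mem ha) b)
    · rw [commutatorElement_def]
      exact (cent Q Nq).mul_mem (hn2.conj_mem _ hb a) ((cent Q Nq).inv_mem hb)
  obtain ⟨α, hα⟩ := S.iQ
  obtain ⟨β, hβ⟩ := S.iP
  have h1 : a ^ p ^ α ∈ Q := by
    have := pow_mem_of_relIndex S.nQ (mem_cent.mp ha).1
    rwa [hα] at this
  have h2 : b ^ q ^ β ∈ P := by
    have := pow_mem_of_relIndex S.nP (mem_cent.mp hb).1
    rwa [hβ] at this
  have h3 : ⁅a, b⁆ ^ p ^ α = 1 := by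
    rw [← comm_pow_left hc, commutatorElement_eq_one_iff_mul_comm]
    exact (mem_cent.mp hb).2 _ h1
  have h4 : ⁅a, b⁆ ^ q ^ β = 1 := by
    rw [← comm_pow_right hc, commutatorElement_eq_one_iff_mul_comm]
    exact ((mem_cent.mp ha).2 _ h2).symm
  have h5 : Nat.Coprime (p ^ α) (q ^ β) :=
    Nat.Coprime.pow _ _ ((Nat.coprime_primes S.hp S.hq).mpr S.hpq)
  have h6 := Nat.eq_one_of_dvd_coprimes h5 (orderOf_dvd_of_pow_eq_one h3)
    (orderOf_dvd_of_pow_eq_one h4)
  exact commutatorElement_eq_one_iff_mul_comm.mp (orderOf_eq_one_iff.mp h6)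

theorem mem_normalizer_of_conj {S : Subgroup G} {g : G} (h1 : ∀ x ∈ S, g * x * g⁻¹ ∈ S)
    (h2 : ∀ x ∈ S, g⁻¹ * x * g ∈ S) : g ∈ normalizer (S : Set G) := by
  rw [Subgroup.mem_normalizer_iff]
  intro x
  constructor
  · exact h1 x
  · intro h
    have := h2 _ h
    have h3 : g⁻¹ * (g * x * g⁻¹) * g = x := by group
    rwa [h3] at this

/-- Normal subgroups of `cent P Np` are normal in `G`. -/
theorem normal_map_cent [Finite G] (S : Setup p q P Q Np Nq) (C : Core G)
    (U : Subgroup (cent P Np)) (hU : U.Normal) : (U.map (cent P Np).subtype).Normal := by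
  rw [← Subgroup.normalizer_eq_top_iff, eq_top_iff, ← sup_cent S C]
  refine sup_le ?_ ?_
  · intro a ha
    apply mem_normalizer_of_conj
    · rintro _ ⟨y, hy, rfl⟩
      exact ⟨⟨a, ha⟩ * y * ⟨a, ha⟩⁻¹, hU.conj_mem y hy _, rfl⟩
    · rintro _ ⟨y, hy, rfl⟩
      have h1 : (⟨a, ha⟩⁻¹ * y * ⟨a, ha⟩ : cent P Np) ∈ U := by
        have := hU.conj_mem y hy (⟨a, ha⟩⁻¹ : cent P Np)
        simpa using this
      exact ⟨_, h1, rfl⟩
  · intro b hb
    have h1 : ∀ x ∈ cent P Np, b * x * b⁻¹ = x := by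
      intro x hx
      rw [← comm_cent S C hx hb]
      group
    have h2 : ∀ x ∈ cent P Np, b⁻¹ * x * b = x := by
      intro x hx
      have := h1 x hx
      calc b⁻¹ * x * b = b⁻¹ * (b * x * b⁻¹) * b := by rw [this]
        _ = x := by group
    have h3 : U.map (cent P Np).subtype ≤ cent P Np := by
      rintro _ ⟨y, -, rfl⟩
      exact y.2
    apply mem_normalizer_of_conj
    · intro x hx
      rw [h1 _ (h3 hx)]
      exact hx
    · intro x hx
      rw [h2 _ (h3 hx)]
      exact hx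

/-- The index of `cent P Np` in `Np`. -/
theorem relIndex_cent_dvd [Finite G] (S : Setup p q P Q Np Nq) (C : Core G) :
    (cent P Np).relIndex Np ∣ (center G).relIndex P := by
  haveI := cent_normal S.nP S.nNp
  have h1 : cent P Np ⊔ P = Np := by
    apply le_antisymm
    · exact sup_le inf_le_left S.PNp
    · rw [sup_comm]
      exact le_sup_cent S C
  have h2 : (cent P Np).relIndex (cent P Np ⊔ P) = (cent P Np).relIndex P :=
    Subgroup.relIndex_sup_left _ _
  rw [h1] at h2
  rw [h2, ← Subgroup.inf_relIndex_right (center G) P]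
  apply Subgroup.relIndex_dvd_of_le_left
  rintro x ⟨hx1, hx2⟩
  refine mem_cent.mpr ⟨S.PNp hx2, fun u _ => ?_⟩
  exact (Subgroup.mem_center_iff.mp hx1 u)

/-- An element of `cent Q Nq` with few fixed points on `P/(P ∩ Z)`. -/
theorem exists_elem [Finite G] (S : Setup p q P Q Np Nq) (C : Core G) {A : ℕ}
    (hA : ∃ s, A = p ^ s) (hA2 : A ^ 2 ≤ (center G).relIndex P) :
    ∃ y ∈ cent Q Nq, A ∣ (P ⊓ centralizer ({y} : Set G)).relIndex P := by
  classical
  haveI := S.nP
  haveI := S.nQ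
  haveI := S.nNp
  haveI := S.nNq
  haveI : Fact p.Prime := ⟨S.hp⟩
  haveI : Fact q.Prime := ⟨S.hq⟩
  set π := QuotientGroup.mk' (center G) with hπ
  let Pb : Subgroup (G ⧸ center G) := P.map π
  haveI hPb : Pb.Normal := S.nP.map _ (QuotientGroup.mk'_surjective _)
  have hB := stepB S C
  have hπcomm : ∀ u v, ⁅u, v⁆ ∈ center G → π u * π v = π v * π u := by
    intro u v h
    have h1 : π ⁅u, v⁆ = 1 := (QuotientGroup.eq_one_iff _).mpr h
    rw [map_commutatorElement, commutatorElement_eq_one_iff_mul_comm] at h1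
    exact h1
  have hcomm : ∀ a b : Pb, a * b = b * a := by
    rintro ⟨_, u, hu, rfl⟩ ⟨_, v, hv, rfl⟩
    apply Subtype.ext
    exact hπcomm u v (hB u hu v (S.PNp hv))
  let ρ₀ : cent Q Nq →* MulAut Pb :=
    (MulAut.conjNormal : (G ⧸ center G) →* MulAut Pb).comp (π.comp (cent Q Nq).subtype)
  have hρ₀ : ∀ (y : cent Q Nq) (v : Pb), ((ρ₀ y v : Pb) : G ⧸ center G) = π y * v * (π y)⁻¹ :=
    fun _ _ => rfl
  let T : Subgroup (MulAut Pb) := ρ₀.range
  have hT : IsPGroup q T := by
    rintro ⟨_, y, rfl⟩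
    obtain ⟨β, hβ⟩ := S.iP
    refine ⟨β, ?_⟩
    apply Subtype.ext
    show ρ₀ y ^ q ^ β = 1
    rw [← map_pow]
    have hyP : ((y ^ q ^ β : cent Q Nq) : G) ∈ P := by
      have := pow_mem_of_relIndex S.nP (mem_cent.mp y.2).1
      rw [hβ] at this
      exact this
    ext ⟨_, v, hv, rfl⟩
    show π ((y ^ q ^ β : cent Q Nq) : G) * π v * (π ((y ^ q ^ β : cent Q Nq) : G))⁻¹ = π v
    rw [hπcomm _ _ (hB _ hyP v (S.PNp hv))]
    group
  have hcop : Nat.Coprime (Nat.card Pb) q := by
    have h1 : IsPGroup p Pb := S.gP.map π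
    obtain ⟨n, hn⟩ := IsPGroup.iff_card.mp h1
    rw [hn]
    exact Nat.Coprime.pow_left n ((Nat.coprime_primes S.hp S.hq).mpr S.hpq)
  have hfix : ∀ v : Pb, (∀ t : T, (T.subtype t) v = v) → v = 1 := by
    rintro ⟨_, u, hu, rfl⟩ hv
    have h1 : ∀ y ∈ cent Q Nq, ⁅u, y⁆ ∈ center G := by
      intro y hy
      have h2 := hv ⟨ρ₀ ⟨y, hy⟩, ⟨y, hy⟩, rfl⟩
      have h3 : π y * π u * (π y)⁻¹ = π u := congrArg Subtype.val h2
      have h4 : π ⁅u, y⁆ = 1 := by
        rw [map_commutatorElement, commutatorElement_eq_one_iff_mul_comm]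
        rw [mul_inv_eq_iff_eq_mul] at h3
        exact h3.symm
      exact (QuotientGroup.eq_one_iff _).mp h4
    have h5 : u ∈ cz (⊤ : Subgroup G) := by
      let Cu : Subgroup G := (centralizer ({π u} : Set (G ⧸ center G))).comap π
      have hCu : ∀ g, g ∈ Cu ↔ ⁅u, g⁆ ∈ center G := by
        intro g
        rw [Subgroup.mem_comap, Subgroup.mem_centralizer_singleton_iff]
        constructor
        · intro h
          have h4 : π ⁅u, g⁆ = 1 := by
            rw [map_commutatorElement, commutatorElement_eq_one_iff_mul_comm]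
            exact h.symm
          exact (QuotientGroup.eq_one_iff _).mp h4
        · intro h
          exact (hπcomm u g h).symm
      have htop : (⊤ : Subgroup G) ≤ Cu := by
        rw [← S.sup]
        refine sup_le ?_ ?_
        · intro w hw
          exact (hCu w).mpr (hB u hu w hw)
        · refine (le_sup_cent S.swap C).trans (sup_le ?_ ?_)
          · intro w hw
            refine (hCu w).mpr ?_
            have h6 : ⁅u, w⁆ = 1 := by
              rw [commutatorElement_eq_one_iff_mul_comm]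
              exact S.comm_PQ hu hw
            rw [h6]
            exact Subgroup.one_mem _
          · intro w hw
            exact (hCu w).mpr (h1 w hw)
      exact mem_cz.mpr fun w _ => (hCu w).mp (htop trivial)
    have h7 : u ∈ center G := mem_center_of_forall_comm C (fun g => mem_cz.mp h5 g trivial)
    apply Subtype.ext
    exact (QuotientGroup.eq_one_iff _).mpr h7
  obtain ⟨⟨_, y, rfl⟩, Sf, hSf, hSf2⟩ := exists_fix_sq_le' hT hcomm T.subtype hcop hfix
  refine ⟨y, y.2, ?_⟩
  set Cy : Subgroup G := P ⊓ centralizer ({(y : G)} : Set G) with hCy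
  have hV : (center G).relIndex P = Nat.card Pb := by
    have h1 := Subgroup.relIndex_ker (K := P) π
    rw [hπ, QuotientGroup.ker_mk'] at h1
    exact h1
  have hc : (center G).relIndex Cy = Nat.card (Cy.map π) := by
    have h1 := Subgroup.relIndex_ker (K := Cy) π
    rw [hπ, QuotientGroup.ker_mk'] at h1
    exact h1
  have hcf : Nat.card (Cy.map π) ≤ Nat.card Sf := by
    have hmem : ∀ x : Cy.map π, x.1 ∈ Pb := fun x => Subgroup.map_mono inf_le_left x.2
    have hfx : ∀ x : Cy.map π, (⟨x.1, hmem x⟩ : Pb) ∈ Sf := by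
      rintro ⟨_, u, hu, rfl⟩
      rw [hSf]
      apply Subtype.ext
      have h1 : (y : G) * u = u * y := by
        have := Subgroup.mem_centralizer_singleton_iff.mp hu.2
        exact this.symm
      show π y * π u * (π y)⁻¹ = π u
      rw [← map_mul, h1, map_mul]
      group
    refine Nat.card_le_card_of_injective
      (fun x : Cy.map π => (⟨⟨x.1, hmem x⟩, hfx x⟩ : Sf)) ?_
    intro a b hab
    have h1 := congrArg (fun z : Sf => ((z : Pb) : G ⧸ center G)) hab
    exact Subtype.ext h1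
  have hmul : (center G).relIndex Cy * Cy.relIndex P = (center G).relIndex P := by
    have h1 := Subgroup.relIndex_inf_mul_relIndex (center G) Cy P
    have h2 : Cy ⊓ P = Cy := inf_eq_left.mpr inf_le_left
    rw [h2] at h1
    rw [h1, ← Subgroup.inf_relIndex_right (center G) P]
    congr 1
    apply le_antisymm
    · exact le_inf inf_le_left (inf_le_right.trans inf_le_left)
    · refine le_inf inf_le_left (le_inf inf_le_right ?_)
      intro z hz
      rw [Subgroup.mem_centralizer_singleton_iff]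
      exact (Subgroup.mem_center_iff.mp hz.1 y).symm
  set a := Cy.relIndex P with ha
  set c := (center G).relIndex Cy with hc'
  have hcpos : 0 < c := by
    rw [hc]
    exact Nat.card_pos
  have hcf2 : c ≤ Nat.card Sf := by
    rw [hc]
    exact hcf
  have h8 : c ≤ a := by
    have h9 : c * c ≤ c * a := by
      calc c * c ≤ Nat.card Sf * Nat.card Sf := Nat.mul_le_mul hcf2 hcf2
        _ = Nat.card Sf ^ 2 := (sq _).symm
        _ ≤ Nat.card Pb := hSf2
        _ = c * a := by rw [← hV, hmul]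
    exact Nat.le_of_mul_le_mul_left h9 hcpos
  have h10 : A ^ 2 ≤ a ^ 2 := by
    calc A ^ 2 ≤ c * a := by rw [hmul]; exact hA2
      _ ≤ a * a := Nat.mul_le_mul_right _ h8
      _ = a ^ 2 := (sq _).symm
  have h11 : A ≤ a := (Nat.pow_le_pow_iff_left (by norm_num)).mp h10
  have h12 : a ∣ Nat.card P := Subgroup.relIndex_dvd_card _ _
  obtain ⟨n, hn⟩ := IsPGroup.iff_card.mp S.gP
  rw [hn] at h12
  obtain ⟨t, -, ht⟩ := (Nat.dvd_prime_pow S.hp).mp h12
  obtain ⟨s, hs⟩ := hA
  rw [ht, hs] at h11 ⊢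
  exact pow_dvd_pow p ((Nat.pow_le_pow_iff_right S.hp.one_lt).mp h11)

/-- The index of a subgroup relative to a normal subgroup divides its index. -/
theorem relIndex_dvd_index_of_normal [Finite G] {R C : Subgroup G} (hR : R.Normal) :
    C.relIndex R ∣ C.index := by
  haveI := hR
  have e1 : R.relIndex (C ⊔ R) = R.relIndex C := Subgroup.relIndex_sup_right _ _
  have e2 := Subgroup.relIndex_mul_relIndex (⊥ : Subgroup G) C (C ⊔ R) bot_le le_sup_left
  have e3 := Subgroup.relIndex_mul_relIndex (⊥ : Subgroup G) R (C ⊔ R) bot_le le_sup_right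
  have e4 := Subgroup.relIndex_mul_relIndex (⊥ : Subgroup G) (R ⊓ C) C bot_le inf_le_right
  have e5 := Subgroup.relIndex_mul_relIndex (⊥ : Subgroup G) (C ⊓ R) R bot_le inf_le_right
  rw [Subgroup.inf_relIndex_right] at e4 e5
  rw [inf_comm] at e5
  simp only [Subgroup.relIndex_bot_left] at e2 e3 e4 e5
  rw [e1] at e3
  have hpos : 0 < Nat.card (R ⊓ C : Subgroup G) := Nat.card_pos
  have hpos2 : 0 < R.relIndex C := Nat.pos_of_ne_zero (by
    intro h
    rw [h, mul_zero] at e4
    exact (Nat.card_pos (α := C)).ne e4)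
  have h1 : C.relIndex (C ⊔ R) = C.relIndex R := by
    have h2 : Nat.card (R ⊓ C : Subgroup G) * R.relIndex C * C.relIndex (C ⊔ R)
        = Nat.card (R ⊓ C : Subgroup G) * C.relIndex R * R.relIndex C := by
      rw [e4, e5, e2, e3]
    have h3 : (Nat.card (R ⊓ C : Subgroup G) * R.relIndex C) * C.relIndex (C ⊔ R)
        = (Nat.card (R ⊓ C : Subgroup G) * R.relIndex C) * C.relIndex R := by
      rw [h2]
      ring
    exact Nat.eq_of_mul_eq_mul_left (Nat.mul_pos hpos hpos2) h3
  rw [← h1]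
  exact ⟨_, (Subgroup.relIndex_mul_index le_sup_left).symm⟩

/-- **The class-size divisibility**. -/
theorem exists_class_index [Finite G] (S : Setup p q P Q Np Nq) (C : Core G) {A B : ℕ}
    (hA : ∃ s, A = p ^ s) (hB : ∃ t, B = q ^ t) (hA2 : A ^ 2 ≤ (center G).relIndex P)
    (hB2 : B ^ 2 ≤ (center G).relIndex Q) :
    ∃ g : G, A * B ∣ (centralizer ({g} : Set G)).index := by
  obtain ⟨y, hy, hAy⟩ := exists_elem S C hA hA2
  obtain ⟨x, hx, hBx⟩ := exists_elem S.swap C hB hB2
  refine ⟨x * y, ?_⟩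
  have h1 : P ⊓ centralizer ({x * y} : Set G) = P ⊓ centralizer ({y} : Set G) := by
    ext u
    simp only [Subgroup.mem_inf, Subgroup.mem_centralizer_singleton_iff]
    refine and_congr_right fun hu => ?_
    have hux := (mem_cent.mp hx).2 u hu
    constructor
    · intro h
      rw [← mul_assoc, hux, mul_assoc, mul_assoc] at h
      exact mul_left_cancel h
    · intro h
      rw [← mul_assoc, hux, mul_assoc, mul_assoc, h]
  have h2 : Q ⊓ centralizer ({x * y} : Set G) = Q ⊓ centralizer ({x} : Set G) := by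
    ext v
    simp only [Subgroup.mem_inf, Subgroup.mem_centralizer_singleton_iff]
    refine and_congr_right fun hv => ?_
    have hvy := (mem_cent.mp hy).2 v hv
    constructor
    · intro h
      rw [mul_assoc x, ← hvy, ← mul_assoc, ← mul_assoc] at h
      exact mul_right_cancel h
    · intro h
      rw [mul_assoc x, ← hvy, ← mul_assoc, ← mul_assoc, h]
  set Cg := centralizer ({x * y} : Set G) with hCg
  have h3 : A ∣ Cg.index := by
    refine dvd_trans hAy ?_
    rw [← h1, inf_comm, Subgroup.inf_relIndex_right]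
    exact relIndex_dvd_index_of_normal S.nP
  have h4 : B ∣ Cg.index := by
    refine dvd_trans hBx ?_
    rw [← h2, inf_comm, Subgroup.inf_relIndex_right]
    exact relIndex_dvd_index_of_normal S.nQ
  refine Nat.Coprime.mul_dvd_of_dvd_of_dvd ?_ h3 h4
  obtain ⟨s, rfl⟩ := hA
  obtain ⟨t, rfl⟩ := hB
  exact Nat.Coprime.pow _ _ ((Nat.coprime_primes S.hp S.hq).mpr S.hpq)

end Step

end Cfsg.Agent.Lib.PrimCS.Struct
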